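import Groth.Prelude.Def_W4c4cptpiccptjacBI
import Mathlib

/-! Per-edge formulas for the Basic Inequality on weighted multigraphs. -/

set_option autoImplicit false
universe u

open Finset LabGraph

namespace Groth.Agent.LabG84.BI

variable {V E : Type u} [Fintype V] [Fintype E] [DecidableEq V] [DecidableEq E]

/-- Indicator of a vertex set, with integer values. -/
def ind (Y : Finset V) (v : V) : ℤ := if v ∈ Y then 1 else 0

omit [Fintype V] in
lemma ind_cases (Y : Finset V) (v : V) : ind Y v = 0 ∨ ind Y v = 1 := by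
  unfold ind; split_ifs <;> simp

omit [DecidableEq E] [Fintype V] in
lemma cut_eq (ends : E → V × V) (Y : Finset V) :
    (cut ends Y : ℤ) = ∑ e : E, |ind Y (ends e).1 - ind Y (ends e).2| := by
  unfold cut
  rw [card_filter, Nat.cast_sum]
  refine sum_congr rfl fun e _ => ?_
  by_cases h1 : (ends e).1 ∈ Y <;> by_cases h2 : (ends e).2 ∈ Y <;> simp [ind, h1, h2]

omit [DecidableEq E] [Fintype V] in
lemma sum_twist (ends : E → V × V) (φ : V → ℤ) (Y : Finset V) :
    ∑ v ∈ Y, twist ends φ v =
      ∑ e : E, (φ (ends e).2 - φ (ends e).1) * (ind Y (ends e).1 - ind Y (ends e).2) := by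
  unfold twist
  rw [sum_comm]
  refine sum_congr rfl fun e _ => ?_
  rw [sum_add_distrib, sum_ite_eq, sum_ite_eq]
  unfold ind
  split_ifs <;> ring

omit [DecidableEq E] in
lemma sum_twist_univ (ends : E → V × V) (φ : V → ℤ) : ∑ v, twist ends φ v = 0 := by
  rw [sum_twist]
  exact sum_eq_zero fun e _ => by simp [ind]

omit [Fintype V] [DecidableEq E] in
lemma sum_endCount (ends : E → V × V) (Y : Finset V) :
    ∑ v ∈ Y, (endCount ends univ v : ℤ) = ∑ e : E, (ind Y (ends e).1 + ind Y (ends e).2) := by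
  simp only [endCount, Nat.cast_sum]
  rw [sum_comm]
  refine sum_congr rfl fun e _ => ?_
  push_cast
  rw [sum_add_distrib, sum_ite_eq, sum_ite_eq]
  rfl

omit [DecidableEq E] in
lemma canDeg_univ (ends : E → V × V) (w : V → ℕ) : canDeg ends w univ = 2 * genus ends w - 2 := by
  unfold canDeg genus
  rw [sum_add_distrib, sum_sub_distrib, sum_endCount, ← mul_sum]
  simp [ind, Finset.card_univ]
  ring

/-- The deviation `K d_Y - D canDeg Y`. -/
def dev (ends : E → V × V) (w : V → ℕ) (d : V → ℤ) (Y : Finset V) : ℤ :=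
  canDeg ends w univ * (∑ v ∈ Y, d v) - (∑ v, d v) * canDeg ends w Y

omit [DecidableEq E] in
lemma dev_eq_sum (ends : E → V × V) (w : V → ℕ) (d : V → ℤ) (Y : Finset V) :
    dev ends w d Y = ∑ v ∈ Y, (canDeg ends w univ * d v -
      (∑ v, d v) * (2 * (w v : ℤ) - 2 + (endCount ends univ v : ℤ))) := by
  unfold dev
  rw [sum_sub_distrib, ← mul_sum, ← mul_sum]
  rfl

omit [DecidableEq E] in
lemma dev_union_inter (ends : E → V × V) (w : V → ℕ) (d : V → ℤ) (Y Z : Finset V) :
    dev ends w d (Y ∪ Z) + dev ends w d (Y ∩ Z) = dev ends w d Y + dev ends w d Z := by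
  simp only [dev_eq_sum]
  exact sum_union_inter

omit [DecidableEq E] in
lemma dev_compl (ends : E → V × V) (w : V → ℕ) (d : V → ℤ) (Y : Finset V) :
    dev ends w d Yᶜ = -dev ends w d Y := by
  have h : dev ends w d univ = 0 := by unfold dev; ring
  rw [dev_eq_sum] at h ⊢
  rw [← sum_add_sum_compl Y] at h
  rw [dev_eq_sum]
  linarith

omit [DecidableEq E] in
lemma cut_compl (ends : E → V × V) (Y : Finset V) : (cut ends Yᶜ : ℤ) = cut ends Y := by
  rw [cut_eq, cut_eq]
  refine sum_congr rfl fun e _ => ?_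
  by_cases h1 : (ends e).1 ∈ Y <;> by_cases h2 : (ends e).2 ∈ Y <;> simp [ind, h1, h2]

omit [DecidableEq E] in
lemma satisfiesBI_iff_le (ends : E → V × V) (w : V → ℕ) (d : V → ℤ) :
    SatisfiesBI ends w d ↔
      ∀ Y, 2 * dev ends w d Y ≤ (cut ends Y : ℤ) * canDeg ends w univ := by
  refine ⟨fun h Y => le_trans ?_ (h Y), fun h Y => ?_⟩
  · exact mul_le_mul_of_nonneg_left (le_abs_self _) zero_le_two
  · have h1 := h Y
    have h2 := h Yᶜ
    rw [dev_compl, cut_compl] at h2
    show 2 * |dev ends w d Y| ≤ _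
    rcases abs_cases (dev ends w d Y) with ⟨he, -⟩ | ⟨he, -⟩ <;> rw [he] <;> linarith

omit [DecidableEq E] in
lemma dev_add_twist (ends : E → V × V) (w : V → ℕ) (d d' : V → ℤ) (φ : V → ℤ)
    (h : ∀ v, d' v = d v + twist ends φ v) (Y : Finset V) :
    dev ends w d' Y = dev ends w d Y + canDeg ends w univ * ∑ v ∈ Y, twist ends φ v := by
  unfold dev
  rw [funext h, sum_add_distrib, sum_add_distrib, sum_twist_univ]
  ring

omit [DecidableEq E] in
/-- An exceptional vertex has canonical degree zero. -/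
lemma canDeg_exceptional {ends : E → V × V} {w : V → ℕ} {v : V} (hv : IsExceptional ends w v) :
    canDeg ends w {v} = 0 := by
  obtain ⟨hw, hl, hc⟩ := hv
  have hcut : (cut ends {v} : ℤ) = 2 := by exact_mod_cast hc
  unfold canDeg
  rw [sum_singleton, hw]
  have : (endCount ends univ v : ℤ) = cut ends {v} := by
    have := sum_endCount ends ({v} : Finset V)
    rw [sum_singleton] at this
    rw [this, cut_eq]
    refine sum_congr rfl fun e _ => ?_
    have := hl e
    by_cases h1 : (ends e).1 = v <;> by_cases h2 : (ends e).2 = v <;> simp [ind, h1, h2]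
    exact absurd (Prod.ext h1 h2) this
  rw [this, hcut]; ring

end Groth.Agent.LabG84.BI
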