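import Groth.Agent.LabG84.Cycles

/-! Functions on the total blow-up graph of a labelled multigraph. -/

set_option autoImplicit false
universe u

open Finset LabGraph

namespace Groth.Agent.LabG84.Blowup

variable {V E : Type u} [Fintype V] [Fintype E] [DecidableEq V] [DecidableEq E]
variable (ends : E → V × V) (l : E → ℕ)

/-- The increment of `ψ` along the `k`-th step of the path of `e`. -/
def step (ψ : BlVert V E l → ℤ) (e : E) (k : ℕ) : ℤ :=
  ψ (pathVert ends l e (k + 1)) - ψ (pathVert ends l e k)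

omit [DecidableEq V] [DecidableEq E] [Fintype V] [Fintype E] in
lemma pathVert_inl_iff (hl : ∀ e, 0 < l e) (e : E) (j : ℕ) (hj : j ≤ l e) (v : V) :
    pathVert ends l e j = Sum.inl v ↔
      (j = 0 ∧ (ends e).1 = v) ∨ (j = l e ∧ (ends e).2 = v) := by
  have := hl e
  unfold pathVert
  split_ifs with h0 h
  · subst h0
    simp only [Sum.inl.injEq, true_and]
    exact ⟨Or.inl, fun hh => hh.elim id fun hh => absurd hh.1 (by omega)⟩
  · simp only [reduceCtorEq, false_iff]
    rintro (⟨rfl, -⟩ | ⟨rfl, -⟩) <;> omega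
  · simp only [Sum.inl.injEq]
    exact ⟨fun hh => Or.inr ⟨by omega, hh⟩, fun hh => hh.elim (fun hh => absurd hh.1 h0) And.right⟩

omit [DecidableEq V] [DecidableEq E] [Fintype V] [Fintype E] in
lemma pathVert_inr_iff (e e' : E) (i : Fin (l e - 1)) (j : ℕ) :
    pathVert ends l e' j = Sum.inr ⟨e, i⟩ ↔ e' = e ∧ j = i.val + 1 := by
  constructor
  · unfold pathVert
    split_ifs with h0 h <;> intro hh
    · exact absurd hh (by simp)
    · simp only [Sum.inr.injEq, Sigma.mk.injEq] at hh
      obtain ⟨rfl, hh⟩ := hh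
      rw [heq_eq_eq] at hh
      subst hh
      exact ⟨rfl, by simp only; omega⟩
    · exact absurd hh (by simp)
  · rintro ⟨rfl, rfl⟩
    have := i.isLt
    unfold pathVert
    rw [dif_neg (by omega), dif_pos (by omega)]
    simp only [Sum.inr.injEq, Sigma.mk.injEq, heq_eq_eq, true_and]
    exact Fin.ext (by simp)

omit [Fintype V] in
lemma mdeg_bl (ψ : BlVert V E l → ℤ) (w : BlVert V E l) :
    mdeg (blEnds ends l) (fun _ => 1) ψ w = ∑ e, ∑ k ∈ range (l e), step ends l ψ e k *
      ((if pathVert ends l e k = w then 1 else 0) - (if pathVert ends l e (k + 1) = w then 1 else 0)) := by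
  rw [Cycles.mdeg_eq _ _ _ (fun p => by simp), Fintype.sum_sigma]
  refine sum_congr rfl fun e _ => ?_
  rw [sum_range (fun k => step ends l ψ e k *
      ((if pathVert ends l e k = w then 1 else 0) - (if pathVert ends l e (k + 1) = w then 1 else 0)))]
  refine sum_congr rfl fun k _ => ?_
  simp only [blEnds, step, Nat.cast_one, Int.ediv_one]
  congr!

omit [Fintype V] in
lemma mdeg_bl_inr (ψ : BlVert V E l → ℤ) (e : E) (i : Fin (l e - 1)) :
    mdeg (blEnds ends l) (fun _ => 1) ψ (Sum.inr ⟨e, i⟩) =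
      step ends l ψ e (i.val + 1) - step ends l ψ e i.val := by
  have hi := i.isLt
  rw [mdeg_bl, sum_eq_single e]
  · simp only [pathVert_inr_iff, true_and, mul_sub, sum_sub_distrib, mul_ite, mul_one, mul_zero,
      Nat.add_right_cancel_iff]
    rw [sum_ite_eq', sum_ite_eq', if_pos (mem_range.2 (by omega)), if_pos (mem_range.2 (by omega))]
  · intro e' _ hne
    simp [pathVert_inr_iff, hne]
  · simp

omit [DecidableEq V] [DecidableEq E] [Fintype V] [Fintype E] in
lemma sum_step (hl : ∀ e, 0 < l e) (ψ : BlVert V E l → ℤ) (e : E) :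
    ∑ k ∈ range (l e), step ends l ψ e k = ψ (Sum.inl (ends e).2) - ψ (Sum.inl (ends e).1) := by
  have h1 := (pathVert_inl_iff ends l hl e (l e) le_rfl (ends e).2).2 (Or.inr ⟨rfl, rfl⟩)
  have h0 := (pathVert_inl_iff ends l hl e 0 (Nat.zero_le _) (ends e).1).2 (Or.inl ⟨rfl, rfl⟩)
  unfold step
  rw [sum_range_sub (fun k => ψ (pathVert ends l e k)), h1, h0]

omit [DecidableEq E] [Fintype V] [Fintype E] in
lemma sum_incidence_inl (hl : ∀ e, 0 < l e) (e : E) (v : V) [DecidableEq E] :
    ∑ k ∈ range (l e), ((if pathVert ends l e k = Sum.inl v then (1:ℤ) else 0) -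
        (if pathVert ends l e (k + 1) = Sum.inl v then 1 else 0)) =
      (if (ends e).1 = v then 1 else 0) - (if (ends e).2 = v then 1 else 0) := by
  rw [sum_range_sub' (fun k => if pathVert ends l e k = Sum.inl v then (1:ℤ) else 0)]
  have := hl e
  congr 1
  · refine if_congr ?_ rfl rfl
    rw [pathVert_inl_iff ends l hl e 0 (Nat.zero_le _)]
    exact ⟨fun hh => hh.elim And.right fun hh => absurd hh.1 (by omega), fun hh => Or.inl ⟨rfl, hh⟩⟩
  · refine if_congr ?_ rfl rfl
    rw [pathVert_inl_iff ends l hl e _ le_rfl]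
    exact ⟨fun hh => hh.elim (fun hh => absurd hh.1 (by omega)) And.right, fun hh => Or.inr ⟨rfl, hh⟩⟩

end Groth.Agent.LabG84.Blowup
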