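import Groth.Agent.LabG84.TreeMatrix
import Groth.Agent.LabChain.Basic

/-! The order of the component group of a multigraph with a multiplicity function. -/

set_option autoImplicit false
universe u

open Finset LabGraph

namespace Groth.Agent.LabG84.CompOrder

variable {V E : Type u} [Fintype V] [Fintype E] [DecidableEq V] [DecidableEq E]

/-- The matrix with row and column `r` replaced by those of the identity. -/
def minorMat (A : Matrix V V ℤ) (r : V) : Matrix V V ℤ :=
  Matrix.of fun i j => if i = r ∨ j = r then (if i = j then 1 else 0) else A i j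

omit [Fintype E] [DecidableEq E] in
lemma gcd_witness [Nonempty V] (β : V → ℤ) (hpos : ∀ v, 0 < β v) :
    ∃ (β₀ u : V → ℤ), 0 < univ.gcd β ∧ (∀ v, β v = univ.gcd β * β₀ v) ∧ (∀ v, 0 < β₀ v) ∧
      ∑ v, β₀ v * u v = 1 := by
  obtain ⟨v₀⟩ := ‹Nonempty V›
  obtain ⟨g, hg, hg1⟩ := Finset.extract_gcd β (s := univ) ⟨v₀, mem_univ _⟩
  have hne : univ.gcd β ≠ 0 := fun h => (hpos v₀).ne' (Finset.gcd_eq_zero_iff.1 h v₀ (mem_univ _))
  have hnn : 0 ≤ univ.gcd β := by
    rw [← Finset.normalize_gcd, ← Int.abs_eq_normalize]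
    exact abs_nonneg _
  have hd : 0 < univ.gcd β := lt_of_le_of_ne hnn hne.symm
  have hspan : (Ideal.span (Set.range g) : Ideal ℤ) = ⊤ := by
    obtain ⟨a, ha⟩ := IsPrincipalIdealRing.principal (Ideal.span (Set.range g))
    have hdvd : ∀ v, a ∣ g v := fun v => by
      have : g v ∈ Ideal.span (Set.range g) := Ideal.subset_span ⟨v, rfl⟩
      rw [ha] at this
      exact Submodule.mem_span_singleton.1 this |>.elim fun c hc => ⟨c, by rw [← hc, smul_eq_mul]; ring⟩
    have : a ∣ 1 := hg1 ▸ Finset.dvd_gcd fun v _ => hdvd v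
    rw [ha]
    exact Ideal.span_singleton_eq_top.2 (isUnit_of_dvd_one this)
  obtain ⟨u, hu⟩ := (Submodule.mem_span_range_iff_exists_fun ℤ).1 (hspan ▸ Submodule.mem_top : (1:ℤ) ∈ Ideal.span (Set.range g))
  refine ⟨g, u, hd, fun v => hg v (mem_univ v), fun v => ?_, ?_⟩
  · have := hpos v
    rw [hg v (mem_univ v)] at this
    exact pos_of_mul_pos_right this hd.le
  · rw [← hu]; exact sum_congr rfl fun v _ => by rw [smul_eq_mul]; ring

omit [Fintype E] [DecidableEq E] in
/-- Congruence computation: `β₀ r² · det (A + u uᵀ) = det` of the minor at `r`. -/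
lemma det_bordered (A : Matrix V V ℤ) (β₀ u : V → ℤ) (hA : A.IsSymm) (hβ : A.mulVec β₀ = 0)
    (hu : ∑ v, β₀ v * u v = 1) (r : V) :
    β₀ r ^ 2 * (A + Matrix.vecMulVec u u).det = (minorMat A r).det := by
  set P : Matrix V V ℤ := (1 : Matrix V V ℤ).updateCol r β₀ with hP
  have hPdet : P.det = β₀ r := by
    rw [hP, ← Matrix.cramer_apply, Matrix.cramer_one]
    simp
  have hcol : ∀ (j : V), j ≠ r → ∀ k, P k j = if k = j then 1 else 0 := fun j hj k => by
    simp [hP, hj, Matrix.one_apply]
  have hcr : ∀ k, P k r = β₀ k := fun k => by simp [hP]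
  have hAP : ∀ i j, (A * P) i j = if j = r then 0 else A i j := by
    intro i j
    rw [Matrix.mul_apply]
    by_cases hj : j = r
    · subst hj
      simp only [hcr, if_pos]
      exact congrFun hβ i
    · simp [hcol j hj, hj]
  set w : V → ℤ := fun i => if i = r then 1 else u i with hw
  have huP : ∀ j, ∑ k, u k * P k j = w j := by
    intro j
    by_cases hj : j = r
    · subst hj
      simp only [hcr, hw, if_pos]
      rw [← hu]; exact sum_congr rfl fun k _ => mul_comm _ _
    · simp [hcol j hj, hw, hj]
  let A₀ : Matrix V V ℤ := Matrix.of fun i j => if i = r ∨ j = r then 0 else A i j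
  have hcong : P.transpose * (A + Matrix.vecMulVec u u) * P = A₀ + Matrix.vecMulVec w w := by
    rw [Matrix.mul_add, Matrix.add_mul]
    congr 1
    · rw [Matrix.mul_assoc]
      ext i j
      rw [Matrix.mul_apply]
      simp only [Matrix.transpose_apply, hAP, A₀, Matrix.of_apply]
      by_cases hj : j = r
      · simp [hj]
      · simp only [hj, if_false, or_false]
        by_cases hi : i = r
        · subst hi
          simp only [hcr, if_pos]
          have := congrFun hβ j
          simp only [Matrix.mulVec, dotProduct, Pi.zero_apply] at this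
          rw [← this]
          exact sum_congr rfl fun k _ => by rw [hA.apply j k]; ring
        · simp [hcol i hi, hi]
    · rw [Matrix.mul_vecMulVec, Matrix.vecMulVec_mul]
      ext i j
      simp only [Matrix.vecMulVec_apply, Matrix.mulVec, Matrix.vecMul, dotProduct, Matrix.transpose_apply]
      rw [huP j, ← huP i]
      congr 1
      exact sum_congr rfl fun k _ => mul_comm _ _
  have hdetcong : (A₀ + Matrix.vecMulVec w w).det = β₀ r ^ 2 * (A + Matrix.vecMulVec u u).det := by
    rw [← hcong, Matrix.det_mul, Matrix.det_mul, Matrix.det_transpose, hPdet]; ring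
  rw [← hdetcong]
  set c : V → ℤ := fun i => if i = r then 0 else u i with hc
  let B : Matrix V V ℤ := Matrix.of fun i j => if i = r then w j else A₀ i j
  have h1 : (A₀ + Matrix.vecMulVec w w).det = B.det := by
    refine Matrix.det_eq_of_forall_row_eq_smul_add_const c r (by simp [hc]) fun i j => ?_
    simp only [Matrix.add_apply, Matrix.vecMulVec_apply, B, Matrix.of_apply, A₀, hc, hw, if_pos]
    by_cases hi : i = r <;> simp [hi]
  have h2 : B.transpose.det = (minorMat A r).transpose.det := by
    refine Matrix.det_eq_of_forall_row_eq_smul_add_const c r (by simp [hc]) fun i j => ?_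
    simp only [Matrix.transpose_apply, B, Matrix.of_apply, A₀, minorMat, hc, hw]
    by_cases hi : i = r <;> by_cases hj : j = r <;> simp [hi, hj]
    all_goals exact fun h => absurd h.symm hi
  rw [h1, ← Matrix.det_transpose, h2, Matrix.det_transpose]

variable {ends : E → V × V} {β : V → ℤ}

lemma minor_eq_lap (hβ : IsMultFn ends β) (r : V) :
    (∏ v ∈ univ.erase r, β v) ^ 2 * (minorMat (-mfMatrix ends β) r).det =
      (Matrix.of fun i j => if i = r ∨ j = r then (if i = j then (1:ℤ) else 0)
        else TreeMatrix.lap ends (fun e => β (ends e).1 * β (ends e).2) i j).det := by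
  set d : V → ℤ := fun v => if v = r then 1 else β v with hd
  have hdet : (Matrix.diagonal d).det = ∏ v ∈ univ.erase r, β v := by
    rw [Matrix.det_diagonal, ← mul_prod_erase _ _ (mem_univ r)]
    simp only [hd, if_pos, one_mul]
    exact prod_congr rfl fun v hv => if_neg (ne_of_mem_erase hv)
  rw [← hdet, sq, mul_right_comm, ← Matrix.det_mul, ← Matrix.det_mul]
  congr 1
  ext i j
  simp only [Matrix.mul_diagonal, Matrix.diagonal_mul, minorMat, Matrix.of_apply]
  by_cases hi : i = r ∨ j = r
  · simp only [if_pos hi]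
    by_cases hij : i = j
    · subst hij
      rcases hi with h | h <;> simp [hd, h]
    · simp [hij]
  simp only [if_neg hi]
  push Not at hi
  simp only [hd, if_neg hi.1, if_neg hi.2, Matrix.neg_apply, TreeMatrix.lap]
  by_cases hij : i = j
  · subst hij
    have hdiag : β i * mfMatrix ends β i i = -∑ w ∈ univ.erase i, β w * (edgeMult ends i w : ℤ) :=
      Groth.Agent.LabChain.beta_mul_diag hβ i
    have hkey : ∑ e, β (ends e).1 * β (ends e).2 * ((if (ends e).2 = i then (1:ℤ) else 0) - (if (ends e).1 = i then 1 else 0)) *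
        ((if (ends e).2 = i then 1 else 0) - (if (ends e).1 = i then 1 else 0)) =
        β i * ∑ w ∈ univ.erase i, β w * (edgeMult ends i w : ℤ) := by
      symm
      rw [mul_sum, sum_congr rfl fun w hw => by
        rw [Groth.Agent.LabChain.edgeMult_eq_sum ends (ne_of_mem_erase hw).symm, mul_sum, mul_sum]]
      rw [sum_comm]
      refine sum_congr rfl fun e _ => ?_
      obtain ⟨a, b, hab⟩ : ∃ a b, ends e = (a, b) := ⟨_, _, rfl⟩
      simp only [hab, Prod.mk.injEq]
      simp only [mul_add, mul_ite, mul_one, mul_zero, ite_and, sum_add_distrib, sum_ite_eq', sum_ite_eq,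
        mem_erase, mem_univ, and_true]
      by_cases ha : a = i <;> by_cases hb : b = i <;> simp [ha, hb] <;> ring
    rw [hkey]
    linear_combination (-β i) * hdiag
  · rw [mfMatrix, if_neg hij, Groth.Agent.LabChain.edgeMult_eq_sum ends hij, ← sum_neg_distrib, mul_sum, sum_mul]
    refine sum_congr rfl fun e _ => ?_
    obtain ⟨a, b, hab⟩ : ∃ a b, ends e = (a, b) := ⟨_, _, rfl⟩
    simp only [hab, Prod.mk.injEq]
    by_cases h1 : a = i <;> by_cases h2 : b = i <;> by_cases h3 : a = j <;> by_cases h4 : b = j <;>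
      simp_all <;> ring

/-- The component group has `|det (α + u uᵀ)|` elements. -/
lemma card_compGrp (β₀ u : V → ℤ) (d : ℤ) (hd : d ≠ 0) (hβ : IsMultFn ends β)
    (hdβ : ∀ v, β v = d * β₀ v) (hu : ∑ v, β₀ v * u v = 1)
    (hdet : (-mfMatrix ends β + Matrix.vecMulVec u u).det ≠ 0) :
    Nat.card (CompGrp ends β) = (-mfMatrix ends β + Matrix.vecMulVec u u).det.natAbs := by
  set α := mfMatrix ends β with hα
  set M := -α + Matrix.vecMulVec u u with hM
  set N : Submodule ℤ (V → ℤ) := LinearMap.range M.mulVecLin with hN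
  have hinj : Function.Injective M.mulVecLin := by
    rw [← LinearMap.ker_eq_bot, ← Matrix.toLin'_apply']
    refine LinearMap.ker_eq_bot'.2 fun x hx => ?_
    by_contra hx0
    exact hdet (Matrix.exists_mulVec_eq_zero_iff.1 ⟨x, hx0, by simpa using hx⟩)
  let e : (V → ℤ) ≃ₗ[ℤ] N := LinearEquiv.ofInjective M.mulVecLin hinj
  have hcard : Nat.card ((V → ℤ) ⧸ N) = M.det.natAbs := by
    rw [← Submodule.natAbs_det_equiv N e.toAddEquiv]
    rw [← LinearMap.det_toLin' M]
    congr 2
  have hb0 : ∑ v, β v * u v = d := by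
    simp only [hdβ, mul_assoc, ← mul_sum, hu, mul_one]
  have hker : ∀ x, x ∈ LinearMap.ker (betaHom β) ↔ ∑ v, β₀ v * x v = 0 := fun x => by
    rw [Groth.Agent.LabChain.mem_ker_betaHom]
    simp only [hdβ, mul_assoc, ← mul_sum, mul_eq_zero, hd, false_or]
  have hαβ₀ : α.mulVec β₀ = 0 := by
    funext v
    have := Groth.Agent.LabChain.mulVec_beta hβ v
    rw [show β = d • β₀ from funext fun v => by simpa using hdβ v, Matrix.mulVec_smul, Pi.smul_apply,
      smul_eq_mul, mul_eq_zero] at this
    rw [hα, show β = d • β₀ from funext fun v => by simpa using hdβ v]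
    exact this.resolve_left hd
  have hMy : ∀ y, M.mulVec y = -(α.mulVec y) + (∑ v, u v * y v) • u := fun y => by
    funext i
    simp only [hM, Matrix.add_mulVec, Matrix.neg_mulVec, Pi.add_apply, Pi.smul_apply, smul_eq_mul]
    congr 1
    simp only [Matrix.mulVec, dotProduct, Matrix.vecMulVec_apply, sum_mul]
    exact sum_congr rfl fun v _ => by ring
  have hu_mem : u ∈ N := ⟨β₀, by
    rw [Matrix.mulVecLin_apply, hMy, hαβ₀, neg_zero, zero_add,
      show ∑ v, u v * β₀ v = 1 by rw [← hu]; exact sum_congr rfl fun v _ => mul_comm _ _, one_smul]⟩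
  set I := (LinearMap.range (Matrix.mulVecLin α)).comap (LinearMap.ker (betaHom β)).subtype with hI
  have hle : I ≤ N.comap (LinearMap.ker (betaHom β)).subtype := by
    rintro x ⟨y, hy⟩
    refine ⟨-y + (∑ v, u v * y v) • β₀, ?_⟩
    have h1 : ∑ v, u v * ((-y + (∑ v, u v * y v) • β₀) v) = 0 := by
      simp only [Pi.add_apply, Pi.neg_apply, Pi.smul_apply, smul_eq_mul, mul_add, sum_add_distrib,
        mul_neg, sum_neg_distrib]
      rw [neg_add_eq_zero]
      calc _ = (∑ v, u v * y v) * ∑ v, β₀ v * u v := by rw [hu, mul_one]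
        _ = _ := by rw [mul_sum]; exact sum_congr rfl fun v _ => by ring
    rw [Matrix.mulVecLin_apply, hMy, h1, zero_smul, add_zero, Matrix.mulVec_add, Matrix.mulVec_neg,
      Matrix.mulVec_smul, hαβ₀, smul_zero, add_zero, neg_neg]
    rw [Matrix.mulVecLin_apply] at hy
    exact hy
  have hbij : Function.Bijective (Submodule.mapQ I N (LinearMap.ker (betaHom β)).subtype hle) := by
    constructor
    · refine (injective_iff_map_eq_zero _).2 fun q hq => ?_
      obtain ⟨x, rfl⟩ := Submodule.Quotient.mk_surjective _ q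
      rw [Submodule.mapQ_apply, Submodule.Quotient.mk_eq_zero] at hq
      obtain ⟨y, hy⟩ := hq
      rw [Matrix.mulVecLin_apply, hMy, Submodule.coe_subtype] at hy
      have hs : ∑ v, u v * y v = 0 := by
        have h0 := (hker _).1 x.2
        rw [← hy] at h0
        have hsum := Groth.Agent.LabChain.sum_beta_mulVec hβ y
        simp only [hdβ, mul_assoc, ← mul_sum, mul_eq_zero, hd, false_or] at hsum
        simp only [Pi.add_apply, Pi.neg_apply, Pi.smul_apply, smul_eq_mul, mul_add, sum_add_distrib,
          mul_neg, sum_neg_distrib] at h0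
        rw [hα, hsum, neg_zero, zero_add] at h0
        calc (∑ v, u v * y v) = (∑ v, u v * y v) * ∑ v, β₀ v * u v := by rw [hu, mul_one]
          _ = ∑ v, β₀ v * ((∑ x, u x * y x) * u v) := by
            rw [mul_sum]; exact sum_congr rfl fun v _ => by ring
          _ = 0 := h0
      rw [Submodule.Quotient.mk_eq_zero]
      refine ⟨-y, ?_⟩
      rw [hs, zero_smul, add_zero] at hy
      rw [Matrix.mulVecLin_apply, Matrix.mulVec_neg, hy]
      rfl
    · intro q
      obtain ⟨z, rfl⟩ := Submodule.Quotient.mk_surjective _ q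
      have hx : z - (∑ v, β₀ v * z v) • u ∈ LinearMap.ker (betaHom β) := by
        rw [hker]
        simp only [Pi.sub_apply, Pi.smul_apply, smul_eq_mul, mul_sub, sum_sub_distrib]
        rw [sub_eq_zero]
        calc _ = (∑ v, β₀ v * z v) * ∑ v, β₀ v * u v := by rw [hu, mul_one]
          _ = _ := by rw [mul_sum]; exact sum_congr rfl fun v _ => by ring
      refine ⟨Submodule.Quotient.mk ⟨_, hx⟩, ?_⟩
      rw [Submodule.mapQ_apply, Submodule.Quotient.eq, Submodule.coe_subtype, sub_sub_cancel_left]
      exact N.neg_mem (N.smul_mem _ hu_mem)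
  rw [← hcard]
  exact Nat.card_eq_of_bijective _ hbij

end Groth.Agent.LabG84.CompOrder
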