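import Groth.Prelude.Def_DualGr
import Mathlib

/-! Chains, circuits and spanning forests of finite multigraphs. -/

set_option autoImplicit false
universe u

open Finset LabGraph

namespace Groth.Agent.LabG84.Cycles

variable {V E : Type u} [Fintype V] [Fintype E] [DecidableEq V] [DecidableEq E]

/-- Adjacency through an edge of `T`. -/
def AdjIn (ends : E → V × V) (T : Finset E) (v w : V) : Prop :=
  ∃ e ∈ T, ends e = (v, w) ∨ ends e = (w, v)

omit [Fintype V] [Fintype E] [DecidableEq V] [DecidableEq E] in
lemma adjIn_symm {ends : E → V × V} {T : Finset E} {v w : V} (h : AdjIn ends T v w) :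
    AdjIn ends T w v := by
  obtain ⟨e, he, h⟩ := h; exact ⟨e, he, h.symm⟩

omit [Fintype V] [Fintype E] [DecidableEq V] [DecidableEq E] in
lemma reach_symm {ends : E → V × V} {T : Finset E} {v w : V}
    (h : Relation.ReflTransGen (AdjIn ends T) v w) : Relation.ReflTransGen (AdjIn ends T) w v := by
  induction h with
  | refl => exact Relation.ReflTransGen.refl
  | tail _ hbc ih => exact ih.head (adjIn_symm hbc)

/-- No circuit is contained in `F`. -/
def Acyclic (ends : E → V × V) (F : Finset E) : Prop := ∀ C ⊆ F, ¬ IsCircuit ends C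

omit [Fintype E] [DecidableEq E] in
lemma sum_endCount_mem (ends : E → V × V) (S : Finset V) (C : Finset E) :
    ∑ v ∈ S, endCount ends C v =
      ∑ e ∈ C, ((if (ends e).1 ∈ S then 1 else 0) + (if (ends e).2 ∈ S then 1 else 0)) := by
  unfold endCount
  rw [sum_comm]
  refine sum_congr rfl fun e _ => ?_
  rw [sum_add_distrib, sum_ite_eq, sum_ite_eq]

omit [Fintype E] in
/-- Deleting an edge of an even edge set keeps its endpoints connected. -/
lemma reach_erase {ends : E → V × V} {C : Finset E} (hC : ∀ v, Even (endCount ends C v))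
    {e : E} (he : e ∈ C) :
    Relation.ReflTransGen (AdjIn ends (C.erase e)) (ends e).1 (ends e).2 := by
  classical
  by_contra h
  let S : Finset V := univ.filter fun v => Relation.ReflTransGen (AdjIn ends (C.erase e)) (ends e).1 v
  have hev : Even (∑ v ∈ S, endCount ends C v) := even_sum _ fun v _ => hC v
  rw [sum_endCount_mem, ← add_sum_erase _ _ he] at hev
  have h1 : (ends e).1 ∈ S := by simpa [S] using Relation.ReflTransGen.refl
  have h2 : (ends e).2 ∉ S := by simpa [S] using h
  rw [if_pos h1, if_neg h2] at hev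
  have hrest : Even (∑ x ∈ C.erase e,
      ((if (ends x).1 ∈ S then 1 else 0) + (if (ends x).2 ∈ S then 1 else 0) : ℕ)) := by
    refine even_sum _ fun x hx => ?_
    have hiff : (ends x).1 ∈ S ↔ (ends x).2 ∈ S := by
      simp only [S, mem_filter, mem_univ, true_and]
      exact ⟨fun hh => hh.tail ⟨x, hx, Or.inl rfl⟩, fun hh => hh.tail ⟨x, hx, Or.inr rfl⟩⟩
    by_cases hh : (ends x).1 ∈ S
    · simp [hh, hiff.1 hh]
    · have : (ends x).2 ∉ S := fun h' => hh (hiff.2 h')
      simp [hh, this]
  rw [Nat.even_add] at hev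
  exact absurd (hev.2 hrest) (by simp)

omit [Fintype E] [DecidableEq E] in
lemma exists_circuit_subset {ends : E → V × V} (C : Finset E) :
    C.Nonempty → (∀ v, Even (endCount ends C v)) → ∃ C' ⊆ C, IsCircuit ends C' := by
  induction C using Finset.strongInduction with
  | _ C ih =>
    intro hne hev
    by_cases h : ∀ C' : Finset E, C' ⊂ C → C'.Nonempty → ∃ v, ¬ Even (endCount ends C' v)
    · exact ⟨C, Subset.rfl, hne, hev, h⟩
    · push Not at h
      obtain ⟨C', hss, hne', hev'⟩ := h
      obtain ⟨C'', hsub, hc⟩ := ih C' hss hne' hev'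
      exact ⟨C'', hsub.trans hss.subset, hc⟩

omit [DecidableEq E] [Fintype V] in
lemma boundary_add (ends : E → V × V) (γ δ : E → ℤ) (v : V) :
    boundary ends (γ + δ) v = boundary ends γ v + boundary ends δ v := by
  unfold boundary
  rw [← sum_add_distrib]
  refine sum_congr rfl fun e _ => ?_
  simp only [Pi.add_apply]
  split_ifs <;> ring

omit [DecidableEq E] [Fintype V] in
lemma boundary_smul (ends : E → V × V) (c : ℤ) (γ : E → ℤ) (v : V) :
    boundary ends (c • γ) v = c * boundary ends γ v := by
  unfold boundary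
  rw [mul_sum]
  refine sum_congr rfl fun e _ => ?_
  simp only [Pi.smul_apply, smul_eq_mul]
  split_ifs <;> ring

omit [Fintype V] in
lemma boundary_single (ends : E → V × V) (e : E) (c : ℤ) (v : V) :
    boundary ends (Pi.single e c) v =
      (if (ends e).2 = v then c else 0) - (if (ends e).1 = v then c else 0) := by
  unfold boundary
  rw [sum_eq_single e]
  · rw [Pi.single_eq_same]
  · intro x _ hx; rw [Pi.single_eq_of_ne hx]; simp
  · simp

omit [Fintype V] in
/-- A walk in `T` gives an integer chain supported on `T`. -/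
lemma exists_chain {ends : E → V × V} {T : Finset E} {x y : V}
    (h : Relation.ReflTransGen (AdjIn ends T) x y) :
    ∃ P : E → ℤ, (∀ e ∉ T, P e = 0) ∧
      ∀ v, boundary ends P v = (if y = v then 1 else 0) - (if x = v then 1 else 0) := by
  induction h with
  | refl => exact ⟨0, fun _ _ => rfl, fun v => by simp [boundary]⟩
  | tail hxa hab ih =>
    obtain ⟨P, hP, hb⟩ := ih
    obtain ⟨e, he, he'⟩ := hab
    rcases he' with he' | he'
    · refine ⟨P + Pi.single e 1, fun x hx => ?_, fun v => ?_⟩
      · simp [hP x hx, ne_of_mem_of_not_mem he hx |>.symm]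
      · rw [boundary_add, hb, boundary_single, he']; ring
    · refine ⟨P + Pi.single e (-1), fun x hx => ?_, fun v => ?_⟩
      · simp [hP x hx, ne_of_mem_of_not_mem he hx |>.symm]
      · rw [boundary_add, hb, boundary_single, he']; split_ifs <;> ring

/-- A circuit carries an integer cycle with value one on a prescribed edge. -/
lemma exists_cycle_on_circuit {ends : E → V × V} {C : Finset E} (hC : IsCircuit ends C)
    {e : E} (he : e ∈ C) :
    ∃ z : E → ℤ, z e = 1 ∧ (∀ x ∉ C, z x = 0) ∧ ∀ v, boundary ends z v = 0 := by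
  obtain ⟨P, hP, hb⟩ := exists_chain (reach_erase hC.2.1 he)
  refine ⟨Pi.single e 1 - P, ?_, fun x hx => ?_, fun v => ?_⟩
  · simp [hP e (by simp)]
  · simp [hP x (fun h => hx (mem_of_mem_erase h)), ne_of_mem_of_not_mem he hx |>.symm]
  · rw [sub_eq_add_neg, boundary_add, ← neg_one_smul ℤ P, boundary_smul, hb, boundary_single]
    ring

/-- A cycle supported on an acyclic edge set vanishes. -/
lemma eq_zero_of_cycle_on_acyclic {ends : E → V × V} {F : Finset E} (hF : Acyclic ends F)
    (γ : E → ℤ) (hs : ∀ e ∉ F, γ e = 0) (hb : ∀ v, boundary ends γ v = 0) : γ = 0 := by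
  suffices h : ∀ n : ℕ, ∀ γ : E → ℤ, (∑ e, (γ e).natAbs) = n → (∀ e ∉ F, γ e = 0) →
      (∀ v, boundary ends γ v = 0) → γ = 0 from h _ γ rfl hs hb
  intro n
  induction n using Nat.strong_induction_on with
  | _ n ih =>
    intro γ hn hs hb
    by_contra hne
    let C : Finset E := F.filter fun e => Odd (γ e)
    by_cases hC : C.Nonempty
    · have hev : ∀ v, Even (endCount ends C v) := by
        intro v
        have h0 : ((boundary ends γ v : ℤ) : ZMod 2) = 0 := by rw [hb v]; rfl
        have : (endCount ends C v : ZMod 2) = 0 := by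
          rw [← h0]
          simp only [boundary, endCount, C, sum_filter, Nat.cast_sum, Int.cast_sum]
          rw [← sum_subset (subset_univ F) (fun e _ he => by simp [hs e he])]
          refine sum_congr rfl fun e _ => ?_
          rcases Int.even_or_odd (γ e) with he | he
          · have h2 : ((γ e : ℤ) : ZMod 2) = 0 := (ZMod.intCast_eq_zero_iff_even).2 he
            rw [if_neg (by simpa using he)]
            split_ifs <;> push_cast <;> simp [h2]
          · have h2 : ((γ e : ℤ) : ZMod 2) = 1 := (ZMod.intCast_eq_one_iff_odd).2 he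
            rw [if_pos he]
            split_ifs <;> push_cast <;> simp [h2] <;> decide
        exact (ZMod.natCast_eq_zero_iff_even).1 this
      obtain ⟨C', hsub, hc⟩ := exists_circuit_subset C hC hev
      exact hF C' (hsub.trans (filter_subset _ _)) hc
    · have heven : ∀ e, Even (γ e) := by
        intro e
        by_cases he : e ∈ F
        · by_contra h
          exact hC ⟨e, mem_filter.2 ⟨he, Int.not_even_iff_odd.1 h⟩⟩
        · rw [hs e he]; exact Even.zero
      choose δ hδ using fun e => (heven e)
      have hγ : γ = (2 : ℤ) • δ := by funext e; simp [hδ e]; ring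
      have hlt : ∑ e, (δ e).natAbs < n := by
        obtain ⟨e, he⟩ := Function.ne_iff.1 hne
        rw [← hn]
        refine sum_lt_sum (fun x _ => by rw [hδ x]; omega) ⟨e, mem_univ _, ?_⟩
        have : γ e ≠ 0 := he
        rw [hδ e] at this ⊢
        omega
      have hd : δ = 0 := by
        refine ih _ hlt δ rfl (fun e he => ?_) (fun v => ?_)
        · have := hs e he; rw [hδ e] at this; omega
        · have := hb v; rw [hγ, boundary_smul] at this; omega
      exact hne (by rw [hγ, hd, smul_zero])

omit [Fintype E] in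
lemma acyclic_insert {ends : E → V × V} {F : Finset E} (hF : Acyclic ends F) {e : E}
    (hsep : ¬ Relation.ReflTransGen (AdjIn ends F) (ends e).1 (ends e).2) :
    Acyclic ends (insert e F) := by
  intro C hC hc
  by_cases he : e ∈ C
  · refine hsep (Relation.ReflTransGen.mono (fun a b hab => ?_) _ _ (reach_erase hc.2.1 he))
    obtain ⟨x, hx, h⟩ := hab
    obtain ⟨hne, hxC⟩ := mem_erase.1 hx
    exact ⟨x, (mem_insert.1 (hC hxC)).resolve_left hne, h⟩
  · exact hF C (fun x hx => (mem_insert.1 (hC hx)).resolve_left fun h => he (h ▸ hx)) hc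

/-- An acyclic edge set of a connected graph extends to a spanning tree. -/
lemma exists_spanning {ends : E → V × V} (hconn : Connected ends) (F : Finset E)
    (hF : Acyclic ends F) :
    ∃ T : Finset E, F ⊆ T ∧ Acyclic ends T ∧ ∀ v w, Relation.ReflTransGen (AdjIn ends T) v w := by
  classical
  obtain ⟨T, hFT, hT⟩ := Finset.exists_le_maximal
    (univ.filter fun T : Finset E => Acyclic ends T) (mem_filter.2 ⟨mem_univ F, hF⟩)
  have hTa : Acyclic ends T := (mem_filter.1 hT.1).2
  refine ⟨T, hFT, hTa, fun v w => ?_⟩
  induction hconn.2 v w with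
  | refl => exact Relation.ReflTransGen.refl
  | @tail b c _ hbc ih =>
    refine ih.trans ?_
    obtain ⟨e, he⟩ := hbc
    by_cases heT : e ∈ T
    · exact Relation.ReflTransGen.single ⟨e, heT, he⟩
    · have hr : Relation.ReflTransGen (AdjIn ends T) (ends e).1 (ends e).2 := by
        by_contra hsep
        have := hT.2 (mem_filter.2 ⟨mem_univ _, acyclic_insert hTa hsep⟩) (subset_insert e T)
        exact heT (this (mem_insert_self e T))
      rcases he with he | he <;> rw [he] at hr
      · exact hr
      · exact reach_symm hr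

/-- An edge whose endpoints are joined inside `T` closes a circuit with edges of `T`. -/
lemma exists_circuit_insert {ends : E → V × V} {T : Finset E} (hT : Acyclic ends T) {e : E}
    (heT : e ∉ T) (h : Relation.ReflTransGen (AdjIn ends T) (ends e).1 (ends e).2) :
    ∃ C ⊆ insert e T, IsCircuit ends C ∧ e ∈ C := by
  have hnot : ¬ Acyclic ends (insert e T) := by
    intro hac
    obtain ⟨P, hP, hb⟩ := exists_chain h
    have := eq_zero_of_cycle_on_acyclic hac (Pi.single e 1 - P) (fun x hx => by
      simp only [mem_insert, not_or] at hx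
      simp [hP x hx.2, hx.1]) (fun v => by
        rw [sub_eq_add_neg, boundary_add, ← neg_one_smul ℤ P, boundary_smul, hb, boundary_single]
        ring)
    have := congrFun this e
    simp [hP e heT] at this
  unfold Acyclic at hnot
  push Not at hnot
  obtain ⟨C, hC, hc⟩ := hnot
  refine ⟨C, hC, hc, ?_⟩
  by_contra he
  exact hT C (fun x hx => (mem_insert.1 (hC hx)).resolve_left fun h => he (h ▸ hx)) hc

omit [DecidableEq E] in
lemma pair_boundary (ends : E → V × V) (γ : E → ℤ) (φ : V → ℤ) :
    ∑ e, γ e * (φ (ends e).2 - φ (ends e).1) = ∑ v, φ v * boundary ends γ v := by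
  unfold boundary
  simp only [mul_sum, mul_sub, mul_ite, mul_zero]
  rw [sum_comm]
  refine sum_congr rfl fun e _ => ?_
  rw [sum_sub_distrib, sum_ite_eq, sum_ite_eq]
  simp; ring

/-- An edge function killing all cycles is a coboundary, with any prescribed base vertex. -/
lemma exists_potential {ends : E → V × V} (hconn : Connected ends) (ω : E → ℤ)
    (hω : ∀ γ : E → ℤ, (∀ v, boundary ends γ v = 0) → ∑ e, γ e * ω e = 0) (v₀ : V) :
    ∃ φ : V → ℤ, φ v₀ = 0 ∧ ∀ e, φ (ends e).2 - φ (ends e).1 = ω e := by
  obtain ⟨T, -, -, hT⟩ := exists_spanning hconn ∅ (fun C hC hc => by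
    rw [subset_empty.1 hC] at hc; exact hc.1.ne_empty rfl)
  choose P hP hb using fun v => exists_chain (hT v₀ v)
  refine ⟨fun v => ∑ e, P v e * ω e, hω _ (fun v => by rw [hb]; ring), fun e => ?_⟩
  have := hω (P (ends e).1 + Pi.single e 1 + (-1 : ℤ) • P (ends e).2) (fun v => by
    rw [boundary_add, boundary_add, boundary_smul, hb, hb, boundary_single]; ring)
  simp only [Pi.add_apply, Pi.smul_apply, smul_eq_mul, add_mul, sum_add_distrib] at this
  rw [sum_eq_single e (f := fun x => (Pi.single e (1:ℤ) : E → ℤ) x * ω x)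
    (fun x _ hx => by simp [hx]) (by simp)] at this
  simp [mul_assoc] at this
  show ∑ x, P (ends e).2 x * ω x - ∑ x, P (ends e).1 x * ω x = ω e
  linarith

omit [DecidableEq E] [Fintype V] [DecidableEq V] [Fintype E] in
lemma eq_of_adj_invariant {ends : E → V × V} {α : Type*} (hconn : Connected ends) (g : V → α)
    (h : ∀ e, g (ends e).1 = g (ends e).2) (v w : V) : g v = g w := by
  induction hconn.2 v w with
  | refl => rfl
  | tail _ hbc ih =>
    obtain ⟨e, he⟩ := hbc
    rw [ih]
    rcases he with he | he <;> have := h e <;> rw [he] at this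
    · exact this
    · exact this.symm

omit [DecidableEq E] [Fintype V] in
lemma mdeg_eq (ends : E → V × V) (l : E → ℕ) (φ : V → ℤ) (hφ : IsCartier ends l φ) (v : V) :
    mdeg ends l φ v = ∑ e, ((φ (ends e).2 - φ (ends e).1) / (l e : ℤ)) *
      ((if (ends e).1 = v then 1 else 0) - (if (ends e).2 = v then 1 else 0)) := by
  unfold mdeg
  refine sum_congr rfl fun e _ => ?_
  have : (φ (ends e).1 - φ (ends e).2) / (l e : ℤ) = -((φ (ends e).2 - φ (ends e).1) / (l e : ℤ)) := by
    rw [← neg_sub, Int.neg_ediv_of_dvd (by rw [← neg_sub]; exact (hφ e).neg_right)]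
  rw [this]
  split_ifs <;> ring

end Groth.Agent.LabG84.Cycles
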