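import Groth.Agent.LabG84.Cycles
import Groth.Prelude.Def_W4c2conddiscmodels

/-! The weighted matrix tree theorem for finite multigraphs. -/

set_option autoImplicit false
universe u

open Finset LabGraph

namespace Groth.Agent.LabG84.TreeMatrix

open Groth.Agent.LabG84.Cycles

lemma det_mul_expand {V Ω : Type u} [Fintype V] [Fintype Ω] [DecidableEq V]
    {R : Type*} [CommRing R] (M : Matrix V Ω R) (L : Matrix Ω V R) :
    (M * L).det = ∑ p : V → Ω, (∏ i, M i (p i)) * (L.submatrix p id).det := by
  classical
  rw [← Matrix.det_transpose (M * L), Matrix.det_apply']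
  simp only [← Matrix.det_transpose (L.submatrix _ id), Matrix.det_apply', Matrix.transpose_apply,
    Matrix.mul_apply, prod_univ_sum, mul_sum, Fintype.piFinset_univ, Matrix.submatrix_apply, id]
  rw [Finset.sum_comm]
  refine sum_congr rfl fun p _ => sum_congr rfl fun π _ => ?_
  rw [prod_mul_distrib]
  ring

lemma det_mul_transpose {V Ω : Type u} [Fintype V] [Fintype Ω] [DecidableEq V] [DecidableEq Ω]
    {R : Type*} [CommRing R] (C : Matrix V Ω R) (w : Ω → R) (g : Finset Ω → R)
    (hg : ∀ (S : Finset Ω) (e₀ : V ≃ ↥S), (C.submatrix id fun i => (e₀ i : Ω)).det ^ 2 = g S) :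
    ((C * Matrix.diagonal w) * C.transpose).det =
      ∑ S ∈ univ.filter (fun S : Finset Ω => S.card = Fintype.card V), (∏ o ∈ S, w o) * g S := by
  classical
  rw [det_mul_expand]
  have h0 : ∀ p : V → Ω, ¬ Function.Injective p → (C.transpose.submatrix p id).det = 0 := by
    intro p hp
    obtain ⟨i, j, hpij, hij⟩ := Function.not_injective_iff.1 hp
    exact Matrix.det_zero_of_row_eq hij (by ext x; simp [hpij])
  rw [← sum_fiberwise (univ : Finset (V → Ω)) (fun p => univ.image p)]
  rw [← sum_filter_add_sum_filter_not (univ : Finset (Finset Ω)) (fun S => S.card = Fintype.card V)]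
  have hz : ∑ S ∈ univ.filter (fun S : Finset Ω => ¬ S.card = Fintype.card V),
      ∑ p ∈ univ.filter (fun p : V → Ω => univ.image p = S),
        (∏ i, (C * Matrix.diagonal w) i (p i)) * (C.transpose.submatrix p id).det = 0 := by
    refine sum_eq_zero fun S hS => sum_eq_zero fun p hp => ?_
    rw [h0 p, mul_zero]
    intro hinj
    refine (mem_filter.1 hS).2 ?_
    rw [← (mem_filter.1 hp).2, card_image_of_injective _ hinj, card_univ]
  rw [hz, add_zero]
  refine sum_congr rfl fun S hS => ?_
  have hc : Fintype.card V = Fintype.card ↥S := by rw [Fintype.card_coe]; exact (mem_filter.1 hS).2.symm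
  let e₀ : V ≃ ↥S := Fintype.equivOfCardEq hc
  rw [← hg S e₀, sq]
  have hbij : ∑ p ∈ univ.filter (fun p : V → Ω => univ.image p = S),
      (∏ i, (C * Matrix.diagonal w) i (p i)) * (C.transpose.submatrix p id).det =
      ∑ π : Equiv.Perm V, (∏ i, (C * Matrix.diagonal w) i (e₀ (π i) : Ω)) *
        (C.transpose.submatrix (fun i => (e₀ (π i) : Ω)) id).det := by
    symm
    refine sum_bij (fun π _ => fun i => (e₀ (π i) : Ω)) ?_ ?_ ?_ (fun _ _ => rfl)
    · intro π _
      refine mem_filter.2 ⟨mem_univ _, ?_⟩
      ext o
      simp only [mem_image, mem_univ, true_and]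
      exact ⟨fun ⟨i, hi⟩ => hi ▸ (e₀ (π i)).2, fun ho => ⟨π.symm (e₀.symm ⟨o, ho⟩), by simp⟩⟩
    · intro π _ π' _ h
      exact Equiv.ext fun i => e₀.injective (Subtype.ext (congrFun h i))
    · intro p hp
      have hp' := (mem_filter.1 hp).2
      let q : V → ↥S := fun i => ⟨p i, hp' ▸ mem_image_of_mem p (mem_univ i)⟩
      have hq : Function.Surjective q := by
        rintro ⟨o, ho⟩
        rw [← hp', mem_image] at ho
        obtain ⟨i, -, hi⟩ := ho
        exact ⟨i, Subtype.ext hi⟩
      have hqb : Function.Bijective q := (Fintype.bijective_iff_surjective_and_card q).2 ⟨hq, hc⟩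
      exact ⟨(Equiv.ofBijective q hqb).trans e₀.symm, mem_univ _, by funext i; simp [q]⟩
  rw [hbij]
  set A := C.submatrix id (fun i => (e₀ i : Ω)) with hA
  have hprod : ∀ π : Equiv.Perm V, ∏ i, w (e₀ (π i) : Ω) = ∏ o ∈ S, w o := by
    intro π
    rw [Equiv.prod_comp π (fun i => w (e₀ i : Ω)), Equiv.prod_comp e₀ (fun o => w (o : Ω)),
      Finset.prod_coe_sort S w]
  have hdet : ∀ π : Equiv.Perm V,
      (C.transpose.submatrix (fun i => (e₀ (π i) : Ω)) id).det = (Equiv.Perm.sign π : ℤ) * A.det := by
    intro π
    rw [show C.transpose.submatrix (fun i => (e₀ (π i) : Ω)) id = A.transpose.submatrix π id from rfl,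
      Matrix.det_permute, Matrix.det_transpose]
  simp only [Matrix.mul_diagonal, prod_mul_distrib, hprod, hdet]
  have : A.det = ∑ π : Equiv.Perm V, (Equiv.Perm.sign π : ℤ) * ∏ i, C i (e₀ (π i) : Ω) := by
    rw [← Matrix.det_transpose, Matrix.det_apply']
    simp [A]
  conv_rhs => arg 2; arg 1; rw [this]
  rw [sum_mul, mul_sum]
  refine sum_congr rfl fun π _ => ?_
  ring

variable {V E : Type u} [Fintype V] [Fintype E] [DecidableEq V] [DecidableEq E]

lemma isSpanningTree_iff (ends : E → V × V) (hne : Nonempty V) (T : Finset E) :
    IsSpanningTree ends T ↔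
      Acyclic ends T ∧ ∀ v w, Relation.ReflTransGen (AdjIn ends T) v w := by
  constructor
  · rintro ⟨hTc, hTf⟩
    refine ⟨?_, fun v w => Relation.ReflTransGen.mono ?_ _ _ (hTc.2 v w)⟩
    · intro C hC hc
      have hCeq : (C.subtype (· ∈ T)).map ⟨Subtype.val, Subtype.val_injective⟩ = C :=
        Finset.subtype_map_of_mem fun x hx => hC hx
      refine hTf (C.subtype (· ∈ T)) ⟨by rw [← Finset.map_nonempty, hCeq]; exact hc.1, ?_, ?_⟩
      · intro w
        have := hc.2.1 w
        rw [← hCeq] at this
        simpa [LabGraph.endCount, Finset.sum_map] using this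
      · intro D hD hDne
        obtain ⟨w, hw⟩ := hc.2.2 (D.map ⟨Subtype.val, Subtype.val_injective⟩)
          (by rw [← hCeq]; exact Finset.map_ssubset_map.2 hD) hDne.map
        exact ⟨w, fun hh => hw (by simpa [LabGraph.endCount, Finset.sum_map] using hh)⟩
    · rintro x y ⟨⟨f, hf⟩, h⟩
      exact ⟨f, hf, h⟩
  · rintro ⟨hTa, hTc⟩
    refine ⟨⟨hne, fun v w => Relation.ReflTransGen.mono ?_ _ _ (hTc v w)⟩, fun C' hC' => ?_⟩
    · rintro x y ⟨f, hf, h⟩
      exact ⟨⟨f, hf⟩, h⟩
    · refine hTa (C'.map ⟨Subtype.val, Subtype.val_injective⟩) (fun x hx => ?_) ⟨hC'.1.map, ?_, ?_⟩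
      · obtain ⟨y, -, rfl⟩ := Finset.mem_map.1 hx
        exact y.2
      · intro w
        simpa [LabGraph.endCount, Finset.sum_map] using hC'.2.1 w
      · intro D hD hDne
        have hsub : ∀ x ∈ D, x ∈ T := fun x hx => by
          obtain ⟨y, -, rfl⟩ := Finset.mem_map.1 (hD.subset hx)
          exact y.2
        have hDeq : (D.subtype (· ∈ T)).map ⟨Subtype.val, Subtype.val_injective⟩ = D :=
          Finset.subtype_map_of_mem hsub
        obtain ⟨w, hw⟩ := hC'.2.2 (D.subtype (· ∈ T)) (by
          refine (Finset.map_ssubset_map (f := ⟨Subtype.val, Subtype.val_injective⟩)).1 ?_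
          rw [hDeq]; exact hD) (by rw [← Finset.map_nonempty, hDeq]; exact hDne)
        refine ⟨w, fun hh => hw ?_⟩
        rw [← hDeq] at hh
        simpa [LabGraph.endCount, Finset.sum_map] using hh

omit [Fintype V] [Fintype E] [DecidableEq E] in
lemma endCount_eq_filter (ends : E → V × V) (T : Finset E) (v : V) (hloop : ∀ e ∈ T, (ends e).1 ≠ (ends e).2) :
    endCount ends T v = (T.filter fun e => (ends e).1 = v ∨ (ends e).2 = v).card := by
  rw [endCount, card_filter]
  refine sum_congr rfl fun e he => ?_
  have := hloop e he
  by_cases h1 : (ends e).1 = v <;> by_cases h2 : (ends e).2 = v <;> simp [h1, h2]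
  exact this (h1.trans h2.symm)

/-- In an acyclic edge set the edge-ends at a vertex match its neighbours. -/
lemma endCount_eq_nbrCount (ends : E → V × V) (T : Finset E) (hT : Acyclic ends T) (v : V) :
    endCount ends T v = nbrCount ends T v := by
  classical
  have hloop : ∀ e ∈ T, (ends e).1 ≠ (ends e).2 := by
    intro e he h
    have := eq_zero_of_cycle_on_acyclic hT (Pi.single e 1) (fun x hx => by
      simp [ne_of_mem_of_not_mem he hx |>.symm]) (fun u => by rw [boundary_single, h]; simp)
    simpa using congrFun this e
  rw [endCount_eq_filter ends T v hloop]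
  unfold nbrCount
  let other : E → V := fun e => if (ends e).1 = v then (ends e).2 else (ends e).1
  have hmem : ∀ e ∈ T, ((ends e).1 = v ∨ (ends e).2 = v) →
      other e ≠ v ∧ (ends e = (v, other e) ∨ ends e = (other e, v)) := by
    intro e he h
    simp only [other]
    by_cases h1 : (ends e).1 = v
    · rw [if_pos h1]
      exact ⟨fun h2 => hloop e he (h1.trans h2.symm), Or.inl (Prod.ext h1 rfl)⟩
    · rw [if_neg h1]
      exact ⟨h1, Or.inr (Prod.ext rfl (h.resolve_left h1))⟩
  refine card_bij (fun e _ => other e) ?_ ?_ ?_
  · intro e he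
    obtain ⟨he, h⟩ := mem_filter.1 he
    obtain ⟨h1, h2⟩ := hmem e he h
    exact mem_filter.2 ⟨mem_univ _, h1, e, he, h2⟩
  · intro a ha b hb hab
    obtain ⟨ha, h⟩ := mem_filter.1 ha
    obtain ⟨hb, h'⟩ := mem_filter.1 hb
    obtain ⟨-, ea⟩ := hmem a ha h
    obtain ⟨-, eb⟩ := hmem b hb h'
    rw [← hab] at eb
    by_contra hne
    let s : ℤ := if ends a = ends b then -1 else 1
    have := eq_zero_of_cycle_on_acyclic hT (Pi.single a 1 + Pi.single b s) (fun x hx => by
      simp [ne_of_mem_of_not_mem ha hx |>.symm, ne_of_mem_of_not_mem hb hx |>.symm]) (fun u => by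
      rw [boundary_add, boundary_single, boundary_single]
      simp only [s]
      rcases ea with ea | ea <;> rcases eb with eb | eb <;> rw [ea, eb]
      all_goals by_cases hv : v = u <;> by_cases hw : other a = u <;> split_ifs <;> simp_all)
    simpa [Pi.single_eq_of_ne hne] using congrFun this a
  · intro w hw
    obtain ⟨-, hwv, e, he, h⟩ := mem_filter.1 hw
    refine ⟨e, mem_filter.2 ⟨he, ?_⟩, ?_⟩
    · rcases h with h | h <;> rw [h] <;> simp
    · simp only [other]
      rcases h with h | h <;> rw [h] <;> simp [hwv]

/-- The incidence matrix with the row of `r` replaced by the indicator of the extra column. -/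
def incid (ends : E → V × V) (r : V) : Matrix V (Option E) ℤ := fun v o =>
  match o with
  | none => if v = r then 1 else 0
  | some e => if v = r then 0 else (if (ends e).2 = v then 1 else 0) - (if (ends e).1 = v then 1 else 0)

omit [DecidableEq E] in
lemma incid_mulVec (ends : E → V × V) (r : V) (z : Option E → ℤ) (v : V) :
    (incid ends r).mulVec z v = if v = r then z none else boundary ends (fun e => z (some e)) v := by
  rw [Matrix.mulVec, dotProduct, Fintype.sum_option]
  by_cases h : v = r
  · simp [incid, h]
  · simp only [incid, h, if_false, zero_mul, zero_add, boundary]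
    refine sum_congr rfl fun e _ => ?_
    split_ifs <;> ring

omit [DecidableEq E] [Fintype V] in
lemma sum_boundary [Fintype V] (ends : E → V × V) (γ : E → ℤ) : ∑ v, boundary ends γ v = 0 := by
  unfold boundary
  rw [sum_comm]
  exact sum_eq_zero fun e _ => by simp [sum_sub_distrib]

lemma det_incid_sq (ends : E → V × V) (r : V) (S : Finset (Option E)) (e₀ : V ≃ ↥S) :
    ((incid ends r).submatrix id fun i => (e₀ i : Option E)).det ^ 2 =
      (open Classical in if none ∈ S ∧ IsSpanningTree ends S.eraseNone then 1 else 0) := by
  classical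
  set A := (incid ends r).submatrix id fun i => (e₀ i : Option E) with hA
  set T := S.eraseNone with hT
  -- the submatrix acts as the full matrix on vectors supported on `S`
  have hact : ∀ z : Option E → ℤ, (∀ o ∉ S, z o = 0) →
      A.mulVec (fun i => z (e₀ i)) = (incid ends r).mulVec z := by
    intro z hz
    funext v
    simp only [hA, Matrix.mulVec, dotProduct, Matrix.submatrix_apply, id]
    rw [Equiv.sum_comp e₀ (fun o : ↥S => incid ends r v o * z o),
      Finset.sum_coe_sort S (fun o => incid ends r v o * z o)]
    exact sum_subset (subset_univ S) fun o _ ho => by rw [hz o ho, mul_zero]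
  split_ifs with h
  · obtain ⟨hnone, htree⟩ := h
    obtain ⟨hac, hconn⟩ := (isSpanningTree_iff ends ⟨r⟩ T).1 htree
    -- a right inverse over the integers
    have hsurj : ∀ v : V, ∃ z : V → ℤ, A.mulVec z = Pi.single v 1 := by
      intro v
      obtain ⟨P, hP, hb⟩ := exists_chain (hconn r v)
      let z : Option E → ℤ := fun o => match o with
        | none => if v = r then 1 else 0
        | some e => P e
      have hz : ∀ o ∉ S, z o = 0 := by
        rintro (_ | e) ho
        · exact absurd hnone ho
        · exact hP e (by simpa [T] using ho)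
      refine ⟨fun i => z (e₀ i), ?_⟩
      rw [hact z hz]
      funext u
      rw [incid_mulVec]
      by_cases hu : u = r
      · subst hu
        rw [if_pos rfl, Pi.single_apply]
        simp [z, eq_comm]
      · rw [if_neg hu]
        show boundary ends P u = _
        rw [hb, Pi.single_apply, if_neg (Ne.symm hu), sub_zero]
        exact if_congr eq_comm rfl rfl
    choose Z hZ using hsurj
    have hmul : A * Matrix.of (fun i v => Z v i) = 1 := by
      ext u v
      rw [Matrix.mul_apply]
      have := congrFun (hZ v) u
      rw [Matrix.mulVec, dotProduct] at this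
      simp only [Matrix.of_apply]
      rw [this, Pi.single_apply, Matrix.one_apply]
    have := congrArg Matrix.det hmul
    rw [Matrix.det_mul, Matrix.det_one] at this
    rcases Int.eq_one_or_neg_one_of_mul_eq_one this with hd | hd <;> rw [hd] <;> norm_num
  · suffices A.det = 0 by rw [this]; norm_num
    by_cases hnone : none ∈ S
    · have htree : ¬ (Acyclic ends T ∧ ∀ v w, Relation.ReflTransGen (AdjIn ends T) v w) :=
        fun hh => h ⟨hnone, (isSpanningTree_iff ends ⟨r⟩ T).2 hh⟩
      by_cases hac : Acyclic ends T
      · -- disconnected: the indicator of a component kills the matrix on the left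
        have hdisc : ∃ v, ¬ Relation.ReflTransGen (AdjIn ends T) r v := by
          by_contra hall
          push Not at hall
          exact htree ⟨hac, fun v w => (reach_symm (hall v)).trans (hall w)⟩
        obtain ⟨v, hv⟩ := hdisc
        let φ : V → ℤ := fun u => if Relation.ReflTransGen (AdjIn ends T) v u then 1 else 0
        have hφr : φ r = 0 := if_neg fun hh => hv (reach_symm hh)
        refine Matrix.exists_vecMul_eq_zero_iff.1 ⟨φ, ?_, ?_⟩
        · intro h0
          have := congrFun h0 v
          simp [φ, Relation.ReflTransGen.refl] at this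
        · funext i
          simp only [hA, Matrix.vecMul, dotProduct, Matrix.submatrix_apply, id, Pi.zero_apply]
          rcases ho : (e₀ i : Option E) with _ | e
          · simp [incid, hφr]
          · have heT : e ∈ T := by
              simp only [T, mem_eraseNone]
              rw [← ho]; exact (e₀ i).2
            have hiff : Relation.ReflTransGen (AdjIn ends T) v (ends e).1 ↔
                Relation.ReflTransGen (AdjIn ends T) v (ends e).2 :=
              ⟨fun hh => hh.tail ⟨e, heT, Or.inl rfl⟩, fun hh => hh.tail ⟨e, heT, Or.inr rfl⟩⟩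
            have : ∀ u, φ u * incid ends r u (some e) =
                (if (ends e).2 = u then φ u else 0) - (if (ends e).1 = u then φ u else 0) := by
              intro u
              simp only [incid]
              by_cases hu : u = r
              · subst hu; simp [hφr]
              · rw [if_neg hu]; split_ifs <;> ring
            rw [sum_congr rfl fun u _ => this u, sum_sub_distrib]
            simp [φ, hiff]
      · -- a circuit gives a kernel vector
        unfold Acyclic at hac
        push Not at hac
        obtain ⟨C, hC, hc⟩ := hac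
        obtain ⟨e, he⟩ := hc.1
        obtain ⟨γ, hγ1, hγs, hγb⟩ := exists_cycle_on_circuit hc he
        let z : Option E → ℤ := fun o => match o with
          | none => 0
          | some e => γ e
        have hz : ∀ o ∉ S, z o = 0 := by
          rintro (_ | x) ho
          · rfl
          · exact hγs x fun hx => ho (by simpa [T] using hC hx)
        refine Matrix.exists_mulVec_eq_zero_iff.1 ⟨fun i => z (e₀ i), ?_, ?_⟩
        · intro h0
          have heS : some e ∈ S := by simpa [T] using hC he
          have := congrFun h0 (e₀.symm ⟨some e, heS⟩)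
          simp [z, hγ1] at this
        · rw [hact z hz]
          funext u
          rw [incid_mulVec]
          split_ifs
          · rfl
          · exact hγb u
    · refine Matrix.det_eq_zero_of_row_eq_zero r fun i => ?_
      simp only [hA, Matrix.submatrix_apply, id]
      rcases ho : (e₀ i : Option E) with _ | e
      · exact absurd (ho ▸ (e₀ i).2) hnone
      · simp [incid]

/-- A spanning tree together with the extra column has as many members as there are vertices. -/
lemma card_insertNone_tree (ends : E → V × V) (r : V) (T : Finset E) (hT : IsSpanningTree ends T) :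
    (Finset.insertNone T).card = Fintype.card V := by
  classical
  obtain ⟨hac, hconn⟩ := (isSpanningTree_iff ends ⟨r⟩ T).1 hT
  set S := Finset.insertNone T with hS
  let ext : (↥S → ℤ) →ₗ[ℤ] (Option E → ℤ) :=
    { toFun := fun z o => if h : o ∈ S then z ⟨o, h⟩ else 0
      map_add' := fun a b => by funext o; by_cases h : o ∈ S <;> simp [h]
      map_smul' := fun a b => by funext o; by_cases h : o ∈ S <;> simp [h] }
  let L : (↥S → ℤ) →ₗ[ℤ] (V → ℤ) := (incid ends r).mulVecLin.comp ext
  have hsupp : ∀ z, ∀ o ∉ S, ext z o = 0 := fun z o ho => dif_neg ho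
  have hinj : Function.Injective L := by
    refine (injective_iff_map_eq_zero L).2 fun z hz => ?_
    have hz' : ∀ u, (incid ends r).mulVec (ext z) u = 0 := fun u => congrFun hz u
    have hnone : ext z none = 0 := by
      have := hz' r
      rwa [incid_mulVec, if_pos rfl] at this
    have hb : ∀ u, boundary ends (fun e => ext z (some e)) u = 0 := by
      intro u
      have hne : ∀ u, u ≠ r → boundary ends (fun e => ext z (some e)) u = 0 := fun u hu => by
        have := hz' u
        rwa [incid_mulVec, if_neg hu] at this
      by_cases hu : u = r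
      · subst hu
        have := sum_boundary ends (fun e => ext z (some e))
        rwa [sum_eq_single u (fun x _ hx => hne x hx) (by simp)] at this
      · exact hne u hu
    have h0 := eq_zero_of_cycle_on_acyclic hac _ (fun e he => hsupp z (some e) (by simpa [S] using he)) hb
    funext ⟨o, ho⟩
    have he : ext z o = z ⟨o, ho⟩ := dif_pos ho
    rw [← he]
    rcases o with _ | e
    · exact hnone
    · exact congrFun h0 e
  have hsurj : Function.Surjective L := by
    rw [← LinearMap.range_eq_top, eq_top_iff, ← (Pi.basisFun ℤ V).span_eq, Submodule.span_le]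
    rintro _ ⟨v, rfl⟩
    obtain ⟨P, hP, hb⟩ := exists_chain (hconn r v)
    refine ⟨fun o => match o.1 with
      | none => if v = r then 1 else 0
      | some e => P e, ?_⟩
    funext u
    show (incid ends r).mulVec (ext _) u = _
    rw [incid_mulVec, Pi.basisFun_apply, Pi.single_apply]
    have hnS : (none : Option E) ∈ S := Finset.none_mem_insertNone
    by_cases hu : u = r
    · subst hu
      rw [if_pos rfl]
      simp [ext, hnS, eq_comm]
    · rw [if_neg hu]
      have : (fun e => ext (fun o => match o.1 with
          | none => if v = r then 1 else 0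
          | some e => P e) (some e)) = P := by
        funext e
        by_cases he : some e ∈ S
        · simp [ext, he]
        · simp [ext, he, hP e (by simpa [S] using he)]
      rw [this, hb, if_neg (Ne.symm hu), sub_zero]
      exact if_congr eq_comm rfl rfl
  have := (LinearEquiv.ofBijective L ⟨hinj, hsurj⟩).finrank_eq
  simpa using this

omit [Fintype V] in
/-- The weighted Laplacian. -/
def lap (ends : E → V × V) (w : E → ℤ) (i j : V) : ℤ :=
  ∑ e, w e * ((if (ends e).2 = i then 1 else 0) - (if (ends e).1 = i then 1 else 0)) *
    ((if (ends e).2 = j then 1 else 0) - (if (ends e).1 = j then 1 else 0))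

open Classical in
/-- The weighted matrix tree theorem. -/
theorem det_lap (ends : E → V × V) (w : E → ℤ) (r : V) :
    (Matrix.of fun i j => if i = r ∨ j = r then (if i = j then (1:ℤ) else 0) else lap ends w i j).det =
      ∑ T ∈ univ.powerset.filter (fun T : Finset E => IsSpanningTree ends T), ∏ e ∈ T, w e := by
  let w' : Option E → ℤ := fun o => match o with
    | none => 1
    | some e => w e
  have hM : (Matrix.of fun i j => if i = r ∨ j = r then (if i = j then (1:ℤ) else 0) else lap ends w i j) =
      (incid ends r * Matrix.diagonal w') * (incid ends r).transpose := by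
    ext i j
    rw [Matrix.mul_apply, Fintype.sum_option]
    simp only [Matrix.mul_diagonal, Matrix.transpose_apply, Matrix.of_apply, incid, lap, w']
    by_cases hi : i = r <;> by_cases hj : j = r
    · simp [hi, hj]
    · simp [hi, hj, Ne.symm hj]
    · simp [hi, hj]
    · simp only [hi, hj, or_self, if_false, mul_zero, zero_mul, zero_add, mul_one]
      exact sum_congr rfl fun e _ => by ring
  rw [hM, det_mul_transpose (incid ends r) w'
    (fun S => if none ∈ S ∧ IsSpanningTree ends S.eraseNone then 1 else 0)
    (fun S e₀ => det_incid_sq ends r S e₀)]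
  simp only [mul_ite, mul_one, mul_zero]
  rw [← sum_filter, filter_filter]
  refine sum_bij' (fun S _ => S.eraseNone) (fun T _ => Finset.insertNone T) ?_ ?_ ?_ ?_ ?_
  · intro S hS
    exact mem_filter.2 ⟨mem_powerset.2 (subset_univ _), (mem_filter.1 hS).2.2.2⟩
  · intro T hT
    refine mem_filter.2 ⟨mem_univ _, card_insertNone_tree ends r T (mem_filter.1 hT).2,
      Finset.none_mem_insertNone, ?_⟩
    rw [Finset.eraseNone_insertNone]
    exact (mem_filter.1 hT).2
  · intro S hS
    rw [Finset.insertNone_eraseNone, Finset.insert_eq_of_mem (mem_filter.1 hS).2.2.1]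
  · intro T _
    exact Finset.eraseNone_insertNone T
  · intro S hS
    conv_lhs => rw [← Finset.insert_eq_of_mem (mem_filter.1 hS).2.2.1, ← Finset.insertNone_eraseNone]
    rw [Finset.prod_insertNone]
    simp [w']

end Groth.Agent.LabG84.TreeMatrix
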